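import Mathlib
import Cfsg.Agent.Lib.ZStar.Main

/-!
A simple group has no proper subgroup `C` containing the centralizer of an involution `t`, meeting
the class of `t` only in the `C`-class, and such that every involution inverting an element `c` of
`C` is moved into `C` by an element that fixes or inverts `c`.  The proof counts pairs of conjugates
of `t` in the cosets of `C`.
-/

set_option autoImplicit false

set_option linter.style.haveILetI false

open scoped Classical

namespace CfsgLib.CentInv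

variable {G : Type*} [Group G] [Finite G]

/-- Elements fixing or inverting `c` under conjugation. -/
def ext (c : G) : Subgroup G where
  carrier := {g | g * c * g⁻¹ = c ∨ g * c * g⁻¹ = c⁻¹}
  one_mem' := Or.inl (by group)
  mul_mem' := by
    rintro a b ha hb
    show _ ∨ _
    rw [show a * b * c * (a * b)⁻¹ = a * (b * c * b⁻¹) * a⁻¹ by group]
    rcases hb with hb | hb <;> rcases ha with ha | ha <;> rw [hb]
    · exact Or.inl ha
    · exact Or.inr ha
    · exact Or.inr (by rw [← conj_inv, ha])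
    · exact Or.inl (by rw [← conj_inv, ha, inv_inv])
  inv_mem' := by
    rintro a (ha | ha)
    · exact Or.inl (by conv_lhs => rw [← ha]
                       group)
    · refine Or.inr ?_
      have : a * c⁻¹ * a⁻¹ = c := by rw [← conj_inv, ha, inv_inv]
      conv_lhs => rw [← this]
      group

variable (t : G)

/-- The class of `t` as a finset. -/
noncomputable def cls : Finset G :=
  haveI := Fintype.ofFinite G
  Finset.univ.filter fun x => IsConj t x

omit [Finite G] in
theorem mem_cls [Finite G] {x : G} : x ∈ cls t ↔ ∃ g : G, g * t * g⁻¹ = x := by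
  simp [cls, isConj_iff]

theorem conj_mem_cls {x : G} (h : x ∈ cls t) (g : G) : g * x * g⁻¹ ∈ cls t := by
  obtain ⟨k, rfl⟩ := (mem_cls t).mp h
  exact (mem_cls t).mpr ⟨g * k, by group⟩

/-- The conjugates of `t` whose product with `c` is again a conjugate. -/
noncomputable def sol (c : G) : Finset G := (cls t).filter fun v => v * c ∈ cls t

theorem self_inv (ht : t * t = 1) {x : G} (h : x ∈ cls t) : x⁻¹ = x := by
  obtain ⟨k, rfl⟩ := (mem_cls t).mp h
  have : t⁻¹ = t := inv_eq_of_mul_eq_one_right ht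
  rw [conj_inv, this]

theorem sol_conj (ht : t * t = 1) {c v l : G} (hl : l ∈ ext c) (hv : v ∈ sol t c) :
    l * v * l⁻¹ ∈ sol t c := by
  simp only [sol, Finset.mem_filter] at hv ⊢
  refine ⟨conj_mem_cls t hv.1 l, ?_⟩
  have h := conj_mem_cls t hv.2 l
  rcases hl with hl | hl
  · rwa [show l * (v * c) * l⁻¹ = l * v * l⁻¹ * (l * c * l⁻¹) by group, hl] at h
  · have h2 := conj_mem_cls t h (l * v * l⁻¹)
    rw [show l * v * l⁻¹ * (l * (v * c) * l⁻¹) * (l * v * l⁻¹)⁻¹ =
      l * (v * v) * l⁻¹ * (l * c * l⁻¹) * (l * v * l⁻¹)⁻¹ by group, hl] at h2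
    have hvv : v * v = 1 := mul_eq_one_iff_eq_inv.mpr (self_inv t ht hv.1).symm
    rw [hvv, mul_one, mul_inv_cancel, one_mul] at h2
    have h3 := self_inv t ht h2
    rw [mul_inv_rev, inv_inv, inv_inv] at h3
    rwa [← h3] at h2

variable [IsSimpleGroup G]

theorem not_exists (hna : ¬ IsMulCommutative G) {t : G} (ht : orderOf t = 2) (C : Subgroup G)
    (hC : C ≠ ⊤) (hcent : ∀ x : G, x * t = t * x → x ∈ C)
    (hfus : ∀ g : G, g * t * g⁻¹ ∈ C → g ∈ C)
    (hinv : ∀ c ∈ C, ∀ v : G, v * v = 1 → v * c * v⁻¹ = c⁻¹ →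
      ∃ l ∈ ext c, l * v * l⁻¹ ∈ C) : False := by
  haveI := Fintype.ofFinite G
  have htt : t * t = 1 := by rw [← pow_two, ← ht, pow_orderOf_eq_one]
  have htC : t ∈ C := hcent t rfl
  set I := cls t with hI
  set IC := I.filter (· ∈ C) with hIC
  set r := IC.card with hr
  set n := C.index with hn
  have hr1 : 1 ≤ r := Finset.card_pos.mpr ⟨t, Finset.mem_filter.mpr
    ⟨(mem_cls t).mpr ⟨1, by group⟩, htC⟩⟩
  have hn1 : 2 ≤ n := by
    have h0 : n ≠ 0 := C.index_ne_zero_of_finite
    have h1 : n ≠ 1 := fun h => hC (Subgroup.index_eq_one.mp h)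
    omega
  -- the class has `n * r` elements
  have hcard : I.card = n * r := by
    have e : (Finset.univ ×ˢ IC : Finset ((G ⧸ C) × G)).card = I.card := by
      refine Finset.card_bij (fun p _ => p.1.out * p.2 * p.1.out⁻¹) ?_ ?_ ?_
      · exact fun p hp => conj_mem_cls t (Finset.mem_filter.mp (Finset.mem_product.mp hp).2).1 _
      · rintro ⟨q, x⟩ hp ⟨q', x'⟩ hp' he
        obtain ⟨hx, hxC⟩ := Finset.mem_filter.mp (Finset.mem_product.mp hp).2
        obtain ⟨hx', hxC'⟩ := Finset.mem_filter.mp (Finset.mem_product.mp hp').2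
        obtain ⟨h, rfl⟩ := (mem_cls t).mp hx
        obtain ⟨h', rfl⟩ := (mem_cls t).mp hx'
        simp only at he
        have h1 : (h⁻¹ * q.out⁻¹ * (q'.out * h')) * t = t * (h⁻¹ * q.out⁻¹ * (q'.out * h')) := by
          have h2 : q'.out * (h' * t * h'⁻¹) * q'.out⁻¹ = q.out * (h * t * h⁻¹) * q.out⁻¹ := he.symm
          calc h⁻¹ * q.out⁻¹ * (q'.out * h') * t
              = h⁻¹ * q.out⁻¹ * (q'.out * (h' * t * h'⁻¹) * q'.out⁻¹) * (q'.out * h') := by group
            _ = h⁻¹ * q.out⁻¹ * (q.out * (h * t * h⁻¹) * q.out⁻¹) * (q'.out * h') := by rw [h2]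
            _ = t * (h⁻¹ * q.out⁻¹ * (q'.out * h')) := by group
        have h3 := mul_mem (mul_mem (hfus h hxC) (hcent _ h1)) (inv_mem (hfus h' hxC'))
        rw [show h * (h⁻¹ * q.out⁻¹ * (q'.out * h')) * h'⁻¹ = q.out⁻¹ * q'.out by group] at h3
        have hq : q = q' := by
          have := QuotientGroup.eq.mpr h3
          rwa [QuotientGroup.out_eq', QuotientGroup.out_eq'] at this
        subst hq
        simp only [Prod.mk.injEq, true_and]
        exact mul_left_cancel (mul_right_cancel he)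
      · intro v hv
        obtain ⟨g, rfl⟩ := (mem_cls t).mp hv
        set q : G ⧸ C := (g : G ⧸ C) with hq
        have hm : q.out⁻¹ * g ∈ C := QuotientGroup.eq.mp (by rw [QuotientGroup.out_eq'])
        refine ⟨(q, q.out⁻¹ * g * t * (q.out⁻¹ * g)⁻¹), Finset.mem_product.mpr
          ⟨Finset.mem_univ _, Finset.mem_filter.mpr ⟨(mem_cls t).mpr ⟨_, rfl⟩,
            mul_mem (mul_mem hm htC) (inv_mem hm)⟩⟩, ?_⟩
        simp only
        group
    rw [← e, Finset.card_product, Finset.card_univ, ← Nat.card_eq_fintype_card]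
    rfl
  -- the cosets
  set m : G ⧸ C → ℕ := fun q => (I.filter fun v => ((v : G) : G ⧸ C) = q).card with hm
  have hsum : ∑ q, m q = n * r := by
    rw [← hcard]
    exact (Finset.card_eq_sum_card_fiberwise fun _ _ => Finset.mem_univ _).symm
  have hm1 : m (((1 : G)) : G ⧸ C) = r := by
    refine congrArg Finset.card (Finset.filter_congr fun v _ => ?_)
    rw [QuotientGroup.eq, mul_one, inv_mem_iff]
  have hne : (Finset.univ.erase (((1 : G)) : G ⧸ C)).card = n - 1 := by
    rw [Finset.card_erase_of_mem (Finset.mem_univ _), Finset.card_univ, ← Nat.card_eq_fintype_card]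
    rfl
  have hrest : ∑ q ∈ Finset.univ.erase (((1 : G)) : G ⧸ C), m q = (n - 1) * r := by
    have h := Finset.add_sum_erase Finset.univ m (Finset.mem_univ (((1 : G)) : G ⧸ C))
    rw [hsum, hm1] at h
    rw [Nat.sub_mul, one_mul]
    omega
  have hsq : n * r ^ 2 ≤ ∑ q, m q ^ 2 := by
    have h := sq_sum_le_card_mul_sum_sq (s := Finset.univ.erase (((1 : G)) : G ⧸ C)) (f := m)
    rw [hrest, hne, mul_pow, pow_two (n - 1), mul_assoc] at h
    have h2 := Nat.le_of_mul_le_mul_left h (by omega)
    rw [← Finset.add_sum_erase Finset.univ (fun q => m q ^ 2) (Finset.mem_univ (((1 : G)) : G ⧸ C)),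
      hm1]
    obtain ⟨k, hk⟩ : ∃ k, n = k + 1 := ⟨n - 1, by omega⟩
    rw [hk, add_mul, one_mul]
    rw [hk, Nat.add_sub_cancel] at h2
    omega
  -- pairs in a common coset
  set Cf : Finset G := Finset.univ.filter (· ∈ C) with hCf
  have hpairs : ∑ q, m q ^ 2 = ∑ c ∈ Cf, (sol t c).card := by
    have h1 : ∑ q, m q ^ 2 = ∑ v ∈ I, (I.filter fun w => v⁻¹ * w ∈ C).card := by
      rw [← Finset.sum_fiberwise I (fun v : G => ((v : G) : G ⧸ C))]
      refine Finset.sum_congr rfl fun q _ => ?_
      rw [pow_two]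
      have : ∀ v ∈ I.filter (fun v : G => ((v : G) : G ⧸ C) = q),
          (I.filter fun w => v⁻¹ * w ∈ C).card = m q := by
        intro v hv
        refine congrArg Finset.card (Finset.filter_congr fun w _ => ?_)
        rw [← QuotientGroup.eq, (Finset.mem_filter.mp hv).2, eq_comm]
      rw [Finset.sum_congr rfl this, Finset.sum_const, smul_eq_mul]
    have h2 : ∀ v ∈ I, (I.filter fun w => v⁻¹ * w ∈ C).card =
        ∑ c ∈ Cf, if v * c ∈ I then 1 else 0 := by
      intro v _
      rw [← Finset.card_filter]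
      refine Finset.card_bij (fun w _ => v⁻¹ * w) ?_ ?_ ?_
      · intro w hw
        obtain ⟨hw1, hw2⟩ := Finset.mem_filter.mp hw
        simp [hCf, hw2, hw1]
      · intro w _ w' _ he
        exact mul_left_cancel he
      · intro c hc
        simp [hCf] at hc
        exact ⟨v * c, Finset.mem_filter.mpr ⟨hc.2, by simpa using hc.1⟩, by group⟩
    rw [h1, Finset.sum_congr rfl h2, Finset.sum_comm]
    refine Finset.sum_congr rfl fun c _ => ?_
    rw [← Finset.card_filter]
    rfl
  -- inside `C`
  have hin : ∑ c ∈ Cf, (sol t c ∩ IC).card = r * r := by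
    have h1 : ∀ c ∈ Cf, (sol t c ∩ IC).card = ∑ v ∈ IC, if v * c ∈ IC then 1 else 0 := by
      intro c hc
      have hcC : c ∈ C := by simpa [hCf] using hc
      rw [← Finset.card_filter]
      refine congrArg Finset.card (Finset.ext fun v => ?_)
      simp only [Finset.mem_inter, sol, hIC, Finset.mem_filter, ← hI]
      constructor
      · rintro ⟨⟨h1, h2⟩, -, h3⟩
        exact ⟨⟨h1, h3⟩, h2, mul_mem h3 hcC⟩
      · rintro ⟨⟨h1, h3⟩, h2, -⟩
        exact ⟨⟨h1, h2⟩, h1, h3⟩
    rw [Finset.sum_congr rfl h1, Finset.sum_comm]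
    have h2 : ∀ v ∈ IC, (∑ c ∈ Cf, if v * c ∈ IC then 1 else 0) = r := by
      intro v hv
      rw [← Finset.card_filter]
      refine Finset.card_bij (fun c _ => v * c) ?_ ?_ ?_
      · intro c hc; exact (Finset.mem_filter.mp hc).2
      · intro c _ c' _ he; exact mul_left_cancel he
      · intro w hw
        refine ⟨v⁻¹ * w, Finset.mem_filter.mpr ⟨?_, by simpa using hw⟩, by group⟩
        simp only [hCf, Finset.mem_filter, Finset.mem_univ, true_and]
        exact mul_mem (inv_mem (Finset.mem_filter.mp hv).2) (Finset.mem_filter.mp hw).2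
    rw [Finset.sum_congr rfl h2, Finset.sum_const, smul_eq_mul]
  -- one element at a time
  have hkey : ∀ c ∈ Cf.erase 1, (sol t c).card ≤ (n - 1) * (sol t c ∩ IC).card := by
    intro c hc
    obtain ⟨hc1, hcC'⟩ := Finset.mem_erase.mp hc
    have hcC : c ∈ C := by simpa [hCf] using hcC'
    set L := ext c with hL
    have hJ : C.relIndex L ≤ n - 1 := by
      let f : ↥L ⧸ C.subgroupOf L → G ⧸ C := fun q => ((q.out : G) : G ⧸ C)
      have hf : Function.Injective f := by
        intro q q' he
        rw [← QuotientGroup.out_eq' q, ← QuotientGroup.out_eq' q', QuotientGroup.eq,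
          Subgroup.mem_subgroupOf, Subgroup.coe_mul, Subgroup.coe_inv]
        exact QuotientGroup.eq.mp he
      have hle : C.relIndex L ≤ n := Nat.card_le_card_of_injective f hf
      rcases Nat.lt_or_ge (C.relIndex L) n with h | h
      · omega
      exfalso
      have hbij : Function.Bijective f :=
        (Nat.bijective_iff_injective_and_card f).mpr ⟨hf, le_antisymm hle h⟩
      have hall : ∀ g : G, g * c * g⁻¹ ∈ C := by
        intro g
        obtain ⟨q, hq⟩ := hbij.2 ((g⁻¹ : G) : G ⧸ C)
        set k := g * (q.out : G) with hk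
        have hkC : k ∈ C := by
          have h1 := QuotientGroup.eq.mp hq.symm
          rwa [inv_inv] at h1
        have hl : ((q.out : G))⁻¹ ∈ L := inv_mem q.out.2
        have hge : g = k * ((q.out : G))⁻¹ := by rw [hk]; group
        rw [hge, show k * (q.out : G)⁻¹ * c * (k * (q.out : G)⁻¹)⁻¹ =
          k * ((q.out : G)⁻¹ * c * ((q.out : G)⁻¹)⁻¹) * k⁻¹ by group]
        refine mul_mem (mul_mem hkC ?_) (inv_mem hkC)
        rcases hl with hl | hl <;> rw [hl]
        · exact hcC
        · exact inv_mem hcC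
      have hbot : Subgroup.normalClosure ({c} : Set G) ≤ C := by
        refine Subgroup.closure_le C |>.mpr ?_
        intro x hx
        obtain ⟨y, hy, hxy⟩ := Group.mem_conjugatesOfSet_iff.mp hx
        obtain ⟨g, rfl⟩ := isConj_iff.mp hxy
        rw [Set.mem_singleton_iff.mp hy]
        exact hall g
      rcases (Subgroup.normalClosure_normal (s := ({c} : Set G))).eq_bot_or_eq_top with h0 | h0
      · exact hc1 (Subgroup.mem_bot.mp (h0 ▸ Subgroup.subset_normalClosure (Set.mem_singleton c)))
      · exact hC (top_le_iff.mp (h0 ▸ hbot))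
    have hsur : (sol t c).card ≤
        ((Finset.univ : Finset (↥L ⧸ C.subgroupOf L)) ×ˢ (sol t c ∩ IC)).card := by
      refine Finset.card_le_card_of_surjOn (fun p => (p.1.out : G) * p.2 * (p.1.out : G)⁻¹) ?_
      intro v hv
      have hv' : v ∈ sol t c := hv
      obtain ⟨hvI, hvcI⟩ := Finset.mem_filter.mp hv'
      have hvinv : v * c * v⁻¹ = c⁻¹ := by
        have h1 := self_inv t htt hvI
        have h2 := self_inv t htt hvcI
        rw [mul_inv_rev, h1] at h2
        rw [h1]
        have h3 : v * v = 1 := mul_eq_one_iff_eq_inv.mpr h1.symm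
        rw [← h2, mul_assoc, h3, mul_one]
      have hvv : v * v = 1 := mul_eq_one_iff_eq_inv.mpr (self_inv t htt hvI).symm
      obtain ⟨l, hl, hlC⟩ := hinv c hcC v hvv hvinv
      set q : ↥L ⧸ C.subgroupOf L := (((⟨l, hl⟩ : L)⁻¹ : L) : ↥L ⧸ C.subgroupOf L) with hq
      have hmC : (q.out : G)⁻¹ * l⁻¹ ∈ C := by
        have h1 : q.out⁻¹ * (⟨l, hl⟩ : L)⁻¹ ∈ C.subgroupOf L :=
          QuotientGroup.eq.mp (by rw [QuotientGroup.out_eq'])
        simpa [Subgroup.mem_subgroupOf] using h1
      have hxs := sol_conj t htt (L.mul_mem (inv_mem q.out.2) (inv_mem hl))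
        (sol_conj t htt hl hv')
      refine ⟨(q, (q.out : G)⁻¹ * l⁻¹ * (l * v * l⁻¹) * ((q.out : G)⁻¹ * l⁻¹)⁻¹), ?_, ?_⟩
      · refine Finset.mem_product.mpr ⟨Finset.mem_univ _, Finset.mem_inter.mpr ⟨hxs,
          Finset.mem_filter.mpr ⟨(Finset.mem_filter.mp hxs).1, ?_⟩⟩⟩
        exact mul_mem (mul_mem hmC hlC) (inv_mem hmC)
      · simp only
        group
    rw [Finset.card_product, Finset.card_univ, ← Nat.card_eq_fintype_card] at hsur
    exact hsur.trans (Nat.mul_le_mul_right _ hJ)
  have h1C : (1 : G) ∈ Cf := by simp [hCf]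
  have hsol1 : (sol t 1).card = n * r := by
    rw [← hcard]
    refine congrArg Finset.card (Finset.filter_true_of_mem fun v hv => ?_)
    rwa [mul_one]
  have hinter1 : (sol t 1 ∩ IC).card = r := by
    refine congrArg Finset.card (Finset.inter_eq_right.mpr fun v hv => ?_)
    refine Finset.mem_filter.mpr ⟨(Finset.mem_filter.mp hv).1, ?_⟩
    rw [mul_one]; exact (Finset.mem_filter.mp hv).1
  have hA := Finset.add_sum_erase Cf (fun c => (sol t c).card) h1C
  have hB := Finset.add_sum_erase Cf (fun c => (sol t c ∩ IC).card) h1C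
  rw [← hpairs, hsol1] at hA
  rw [hin, hinter1] at hB
  have hK := Finset.sum_le_sum hkey
  rw [← Finset.mul_sum] at hK
  set SA := ∑ c ∈ Cf.erase 1, (sol t c).card
  set SB := ∑ c ∈ Cf.erase 1, (sol t c ∩ IC).card
  have hr_one : r = 1 := by
    by_contra hne1
    obtain ⟨k, hk⟩ : ∃ k, n = k + 1 := ⟨n - 1, by omega⟩
    rw [hk, Nat.add_sub_cancel] at hK
    rw [hk, pow_two] at hsq
    rw [hk] at hA
    have hr2 : 2 ≤ r := by omega
    have hmul : (k + 1) * (r * r) ≤ (k + 1) * r + k * SB := by omega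
    rw [← hB, mul_add] at hmul
    have hSB : SB = 0 := by
      simp only [add_mul, one_mul] at hmul
      omega
    have : 2 * r ≤ r * r := Nat.mul_le_mul_right r hr2
    omega
  -- the isolated case
  have hiso : Cfsg.IsIsolatedInvolution t := by
    refine ⟨ht, fun g hg => ?_⟩
    have h1 : g * t * g⁻¹ ∈ IC := Finset.mem_filter.mpr
      ⟨(mem_cls t).mpr ⟨g, rfl⟩, hcent _ hg.eq.symm⟩
    have h2 : t ∈ IC := Finset.mem_filter.mpr ⟨(mem_cls t).mpr ⟨1, by group⟩, htC⟩
    exact Finset.card_le_one.mp (by omega) _ h1 _ h2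
  have hcc := CfsgLib.ZStar.commutatorsInCore_of_isolated hiso
  haveI := CfsgLib.Transfer.pPrimeCore_normal 2 G
  rcases (CfsgLib.Transfer.pPrimeCore_normal 2 G).eq_bot_or_eq_top with h0 | h0
  · have htc : t ∈ Subgroup.center G := Subgroup.mem_center_iff.mpr fun g => by
      have h3 := hcc g
      rw [h0, Subgroup.mem_bot, mul_inv_eq_one, mul_inv_eq_iff_eq_mul] at h3
      exact h3.symm
    rcases (Subgroup.instNormalCenter (G := G)).eq_bot_or_eq_top with hZ | hZ
    · rw [hZ, Subgroup.mem_bot] at htc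
      simp [htc] at ht
    · exact hna ⟨⟨fun a b => ((Subgroup.mem_center_iff.mp (hZ ▸ Subgroup.mem_top a : a ∈
        Subgroup.center G)) b).symm⟩⟩
  · have hodd := CfsgLib.ZStar.odd_card_core (G := G)
    rw [h0, Subgroup.card_top] at hodd
    have h2 : 2 ∣ Nat.card G := ht ▸ orderOf_dvd_natCard t
    exact Nat.not_even_iff_odd.mpr hodd (even_iff_two_dvd.mpr h2)

end CfsgLib.CentInv
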