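import Mathlib
import Cfsg.Agent.Lib.CentralizedInvolution.Counting
import Cfsg.Agent.Lib.Coprime.Action

/-!
An automorphism of a simple group, of order prime to the order of the group and fixing the
centralizer of an involution pointwise, is trivial.
-/

set_option autoImplicit false
set_option linter.style.haveILetI false

open scoped Classical

namespace CfsgLib.CentInv

open CfsgLib.Coprime

theorem isPGroup_zpowers_of_sq {Y : Type*} [Group Y] {x : Y} (h : x * x = 1) :
    IsPGroup 2 (Subgroup.zpowers x) := by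
  rintro ⟨g, hg⟩
  obtain ⟨n, rfl⟩ := Subgroup.mem_zpowers_iff.mp hg
  refine ⟨1, Subtype.ext ?_⟩
  show (x ^ n) ^ (2 ^ 1) = 1
  rw [pow_one, ← zpow_natCast, ← zpow_mul, mul_comm, zpow_mul, zpow_natCast, pow_two, h, one_zpow]

variable {X : Type*} [Group X] [Finite X]

/-- Invariant `2`-subgroups are centralized. -/
theorem two_group_centralized {A K : Subgroup X} (hAK : A ≤ Subgroup.normalizer (K : Set X))
    (hcop : (Nat.card A).Coprime (Nat.card K)) (hA : Group.IsSolvable A) {T : X} (hT : T ∈ K)
    (hT2 : T * T = 1) (hTA : T ∈ Subgroup.centralizer (A : Set X))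
    (h2 : 2 ∣ Nat.card K)
    (hfix : ∀ x ∈ K, x * T = T * x → x ∈ Subgroup.centralizer (A : Set X))
    {U : Subgroup X} (hUK : U ≤ K) (hU : IsPGroup 2 U)
    (hUA : A ≤ Subgroup.normalizer (U : Set X)) : U ≤ Subgroup.centralizer (A : Set X) := by
  haveI : Fact (Nat.Prime 2) := ⟨Nat.prime_two⟩
  set P := Subgroup.zpowers T with hP
  have hPA : P ≤ Subgroup.centralizer (A : Set X) := Subgroup.zpowers_le.mpr hTA
  have hP2 : IsPGroup 2 P := isPGroup_zpowers_of_sq hT2
  have hAP : A ≤ Subgroup.normalizer (P : Set X) := fun a ha =>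
    Subgroup.centralizer_le_normalizer _ fun x hx => (hPA hx a ha).symm
  have hsol : Group.IsSolvable A ∨ Group.IsSolvable K := Or.inl hA
  obtain ⟨S₁, hPS, hS₁⟩ := exists_invariant_sylow_ge hAK hcop hsol
    (Subgroup.zpowers_le.mpr hT) hP2 hAP
  set S := (S₁ : Subgroup K).map K.subtype with hS
  have hSK : S ≤ K := Subgroup.map_subtype_le _
  have hA2 : (Nat.card A).Coprime 2 := hcop.coprime_dvd_right h2
  have hSA : A ≤ Subgroup.centralizer (S : Set X) :=
    pxq (U := S) hP2 hA2 hPA (S₁.2.map _) (hPS.trans Subgroup.le_normalizer) hS₁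
      (fun x hx => hfix x (hSK hx.1) (hx.2 T (Subgroup.mem_zpowers T)).symm)
  obtain ⟨S₂, hUS, hS₂⟩ := exists_invariant_sylow_ge hAK hcop hsol hUK hU hUA
  obtain ⟨c, hc, hce⟩ := invariant_sylow_conj hAK hcop hsol S₁ S₂ hS₁ hS₂
  intro u hu
  have hu2 := hUS hu
  rw [← hce, map_subtype_conj_smul_sylow] at hu2
  have h4 := hSA
  rw [Subgroup.le_centralizer_iff] at h4
  have h5 : (c : X)⁻¹ * u * c ∈ Subgroup.centralizer (A : Set X) := h4 (by
    have := mem_conj_smul_iff.mp hu2
    simpa only [inv_inv] using this)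
  have := mul_mem (mul_mem hc h5) (inv_mem hc)
  rwa [show (c : X) * ((c : X)⁻¹ * u * c) * (c : X)⁻¹ = u by group] at this

/-- An element conjugating a fixed element to a fixed element, with fixed centralizer, is fixed. -/
theorem fixed_of_conj_fixed {G : Type*} [Group G] [Finite G] (α : MulAut G)
    (hcop : (orderOf α).Coprime (Nat.card G)) {t g : G}
    (hC : ∀ c : G, c * t = t * c → α c = c) (h : α (g * t * g⁻¹) = g * t * g⁻¹) : α g = g := by
  have htt : α t = t := hC t rfl
  rw [map_mul, map_mul, map_inv, htt] at h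
  set k := g⁻¹ * α g with hk
  have hkt : k * t = t * k := by
    rw [hk]
    calc g⁻¹ * α g * t = g⁻¹ * (α g * t * (α g)⁻¹) * α g := by group
      _ = g⁻¹ * (g * t * g⁻¹) * α g := by rw [h]
      _ = t * (g⁻¹ * α g) := by group
  have hfk := hC k hkt
  have hpow : ∀ n : ℕ, (α ^ n) g = g * k ^ n := by
    intro n
    induction n with
    | zero => simp
    | succ n ih =>
      rw [pow_succ', MulAut.mul_apply, ih, map_mul, map_pow, hfk, pow_succ', ← mul_assoc g,
        show g * k = α g by rw [hk]; group]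
  have h1 := hpow (orderOf α)
  rw [pow_orderOf_eq_one, MulAut.one_apply, left_eq_mul] at h1
  have h2 := Nat.dvd_gcd (orderOf_dvd_of_pow_eq_one h1) (orderOf_dvd_natCard k)
  rw [hcop, Nat.dvd_one, orderOf_eq_one_iff] at h2
  rw [hk, inv_mul_eq_one] at h2
  exact h2.symm

theorem automorphism_eq_one {G : Type*} [Group G] [Finite G] [IsSimpleGroup G]
    (hna : ¬ IsMulCommutative G) {t : G} (ht : orderOf t = 2) (α : MulAut G)
    (hcop : (orderOf α).Coprime (Nat.card G))
    (hC : ∀ c : G, c * t = t * c → α c = c) : α = 1 := by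
  by_contra hα
  haveI : Fact (Nat.Prime 2) := ⟨Nat.prime_two⟩
  let C : Subgroup G :=
    { carrier := {g | α g = g}
      one_mem' := map_one α
      mul_mem' := fun {a b} ha hb => by
        show α (a * b) = a * b
        rw [map_mul, ha, hb]
      inv_mem' := fun {a} ha => by
        show α a⁻¹ = a⁻¹
        rw [map_inv, ha] }
  have hCtop : C ≠ ⊤ := fun h => hα (MulEquiv.ext fun g => by
    have : g ∈ C := h ▸ Subgroup.mem_top g
    exact this)
  have htt : t * t = 1 := by rw [← pow_two, ← ht, pow_orderOf_eq_one]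
  refine not_exists hna ht C hCtop hC
    (fun g hg => fixed_of_conj_fixed α hcop hC hg) ?_
  intro c hc v hvv hvc
  let φ : Subgroup.zpowers α →* MulAut G := (Subgroup.zpowers α).subtype
  let Γ := SemidirectProduct G (Subgroup.zpowers α) φ
  haveI : Finite Γ := Finite.of_equiv _ SemidirectProduct.equivProd.symm
  let il : G →* Γ := SemidirectProduct.inl
  let ir : Subgroup.zpowers α →* Γ := SemidirectProduct.inr
  have hinl : Function.Injective il := SemidirectProduct.inl_injective
  set A := ir.range with hA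
  set K := il.range with hK
  have hconj : ∀ (a : Subgroup.zpowers α) (g : G),
      ir a * il g * (ir a)⁻¹ = il ((a : MulAut G) g) := fun a g => by
    rw [← map_inv]; exact (SemidirectProduct.inl_aut a g).symm
  have hfixed : ∀ g : G, α g = g → il g ∈ Subgroup.centralizer (A : Set Γ) := by
    rintro g hg _ ⟨a, rfl⟩
    have hag : (a : MulAut G) g = g := by
      have : Subgroup.zpowers α ≤ MulAction.stabilizer (MulAut G) g :=
        Subgroup.zpowers_le.mpr (MulAction.mem_stabilizer_iff.mpr hg)
      exact MulAction.mem_stabilizer_iff.mp (this a.2)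
    have h1 := hconj a g
    rw [hag, mul_inv_eq_iff_eq_mul] at h1
    exact h1
  have hfixed' : ∀ g : G, il g ∈ Subgroup.centralizer (A : Set Γ) → α g = g := by
    intro g hg
    have h1 := hconj ⟨α, Subgroup.mem_zpowers α⟩ g
    rw [hg _ ⟨⟨α, Subgroup.mem_zpowers α⟩, rfl⟩, mul_assoc, mul_inv_cancel, mul_one] at h1
    exact (hinl h1).symm
  have hnormal : ∀ H : Subgroup G, (∀ (a : Subgroup.zpowers α), ∀ g ∈ H, (a : MulAut G) g ∈ H) →
      A ≤ Subgroup.normalizer ((H.map il : Subgroup Γ) : Set Γ) := by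
    rintro H hH _ ⟨a, rfl⟩
    refine Subgroup.mem_normalizer_iff.mpr fun x => ⟨?_, ?_⟩
    · rintro ⟨g, hg, rfl⟩
      exact ⟨_, hH a g hg, (hconj a g).symm⟩
    · rintro ⟨g, hg, he⟩
      refine ⟨_, hH a⁻¹ g hg, ?_⟩
      rw [← hconj, he, map_inv, inv_inv]
      group
  have hcardA : Nat.card A = orderOf α := by
    rw [hA, ← Nat.card_zpowers α]
    exact (Nat.card_congr (MonoidHom.ofInjective SemidirectProduct.inr_injective).toEquiv).symm
  have hcardK : Nat.card K = Nat.card G := by
    rw [hK]
    exact (Nat.card_congr (MonoidHom.ofInjective hinl).toEquiv).symm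
  have hsolA : Group.IsSolvable A := by
    haveI : IsMulCommutative (Subgroup.zpowers α) := inferInstance
    exact Group.isSolvable_of_surjective (f := ir.rangeRestrict) ir.rangeRestrict_surjective
  have hAK : A ≤ Subgroup.normalizer (K : Set Γ) := by
    rw [hK, MonoidHom.range_eq_map]
    exact hnormal ⊤ fun _ _ _ => Subgroup.mem_top _
  -- the extended centralizer
  set L := ext c with hL
  have hLA : A ≤ Subgroup.normalizer ((L.map il : Subgroup Γ) : Set Γ) := by
    refine hnormal L fun a g hg => ?_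
    have hac : (a : MulAut G) c = c := by
      have : Subgroup.zpowers α ≤ MulAction.stabilizer (MulAut G) c :=
        Subgroup.zpowers_le.mpr (MulAction.mem_stabilizer_iff.mpr hc)
      exact MulAction.mem_stabilizer_iff.mp (this a.2)
    rcases hg with hg | hg
    · refine Or.inl ?_
      have h1 := congrArg (a : MulAut G) hg
      rwa [map_mul, map_mul, map_inv, hac] at h1
    · refine Or.inr ?_
      have h1 := congrArg (a : MulAut G) hg
      rwa [map_mul, map_mul, map_inv, map_inv, hac] at h1
  have hcopK : (Nat.card A).Coprime (Nat.card K) := by rw [hcardA, hcardK]; exact hcop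
  have hLK : L.map il ≤ K := by
    rw [hK, MonoidHom.range_eq_map]; exact Subgroup.map_mono le_top
  have hcopL : (Nat.card A).Coprime (Nat.card ↥(L.map il)) :=
    hcopK.coprime_dvd_right (Subgroup.card_dvd_of_le hLK)
  obtain ⟨R, hR⟩ := exists_invariant_sylow hLA hcopL (Or.inl hsolA) 2
  have hRfix : (R : Subgroup ↥(L.map il)).map (L.map il).subtype ≤
      Subgroup.centralizer (A : Set Γ) :=
    two_group_centralized hAK hcopK hsolA (T := il t) ⟨t, rfl⟩ (by rw [← map_mul, htt, map_one])
      (hfixed t (hC t rfl)) (by rw [hcardK, ← ht]; exact orderOf_dvd_natCard t)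
      (fun x hx hxt => by
        obtain ⟨g, rfl⟩ := hx
        refine hfixed g (hC g ?_)
        exact hinl (by rw [map_mul, map_mul]; exact hxt))
      ((Subgroup.map_subtype_le _).trans hLK) (R.2.map _) hR
  have hvL : v ∈ L := Or.inr hvc
  set v' : ↥(L.map il) := ⟨il v, Subgroup.mem_map_of_mem il hvL⟩ with hv'
  have hv2 : IsPGroup 2 (Subgroup.zpowers v') := isPGroup_zpowers_of_sq
    (Subtype.ext (by show il v * il v = 1; rw [← map_mul, hvv, map_one]))
  obtain ⟨Q, hQ⟩ := hv2.exists_le_sylow
  obtain ⟨g, hg⟩ := MulAction.exists_smul_eq (↥(L.map il)) Q R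
  obtain ⟨l, hl, hle⟩ := g.2
  refine ⟨l, hl, hfixed' _ ?_⟩
  refine hRfix ⟨g * v' * g⁻¹, ?_, ?_⟩
  · rw [← hg, SetLike.mem_coe, Sylow.coe_subgroup_smul]
    exact conj_mem_conj_smul (hQ (Subgroup.mem_zpowers v'))
  · show (g : Γ) * il v * (g : Γ)⁻¹ = il (l * v * l⁻¹)
    rw [← hle, map_mul, map_mul, map_inv]

end CfsgLib.CentInv
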